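import Mathlib.RingTheory.Etale.Field
import Mathlib.RingTheory.Etale.Locus
import Mathlib.RingTheory.DedekindDomain.IntegralClosure
import Mathlib.RingTheory.DedekindDomain.Dvr
import Mathlib.RingTheory.Flat.TorsionFree
import Mathlib.RingTheory.Smooth.IntegralClosure
import Mathlib.RingTheory.IsTensorProduct
import Mathlib.RingTheory.Localization.BaseChange

/-!
# Integral closures of Dedekind domains in étale algebras over the fraction field
-/

set_option autoImplicit false

universe u

open TensorProduct

namespace Groth.Agent.NEt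

variable (R : Type u) [CommRing R] [IsDedekindDomain R] (K : Type u) [Field K] [Algebra R K] [IsFractionRing R K]
  (A : Type u) [CommRing A] [Algebra K A] [Algebra R A] [IsScalarTower R K A]

theorem finite_integralClosure [Algebra.FormallyEtale K A] [Module.Finite K A] :
    Module.Finite R (integralClosure R A) := by
  obtain ⟨I, _, Ai, _, _, e, hsep⟩ := (Algebra.FormallyEtale.iff_exists_algEquiv_prod K A).1
    (inferInstance : Algebra.FormallyEtale K A)
  letI : ∀ i, Algebra R (Ai i) := fun i => ((algebraMap K (Ai i)).comp (algebraMap R K)).toAlgebra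
  haveI : ∀ i, IsScalarTower R K (Ai i) := fun i => IsScalarTower.of_algebraMap_eq fun _ => rfl
  haveI hfd : ∀ i, Module.Finite K (Ai i) := fun i =>
    Module.Finite.of_surjective ((Pi.evalAlgHom K Ai i).comp e.toAlgHom).toLinearMap
      ((Function.surjective_eval i).comp e.surjective)
  haveI hfin : ∀ i, Module.Finite R (integralClosure R (Ai i)) := fun i => by
    haveI := hsep i
    exact IsIntegralClosure.finite R K (Ai i) (integralClosure R (Ai i))
  let π : ∀ i, A →ₐ[R] Ai i := fun i => (((Pi.evalAlgHom K Ai i).comp e.toAlgHom)).restrictScalars R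
  let f : integralClosure R A →ₗ[R] Π i, integralClosure R (Ai i) :=
    { toFun := fun b i => ⟨π i b, b.2.map (π i)⟩
      map_add' := fun a b => by ext i; simp
      map_smul' := fun r b => by ext i; simp }
  refine Module.Finite.of_injective f fun a b hab => Subtype.ext (e.injective (funext fun i => ?_))
  exact congrArg Subtype.val (congrFun hab i)

include K in
theorem isTorsionFree_integralClosure : Module.IsTorsionFree R (integralClosure R A) := by
  refine ⟨fun r hr a b hab => Subtype.ext ?_⟩
  have h := congrArg Subtype.val hab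
  change r • (a : A) = r • (b : A) at h
  rw [← algebraMap_smul K r, ← algebraMap_smul K r] at h
  exact ((IsUnit.mk0 _ ((map_ne_zero_iff _ (IsFractionRing.injective R K)).2 hr.ne_zero)).smul_left_cancel).1 h

theorem isLocalization_integralClosure [Module.Finite K A] :
    IsLocalization (Algebra.algebraMapSubmonoid (integralClosure R A) (nonZeroDivisors R)) A := by
  refine ⟨⟨?_, ?_, ?_⟩⟩
  · rintro ⟨_, r, hr, rfl⟩
    show IsUnit (algebraMap R A r)
    rw [IsScalarTower.algebraMap_apply R K A]
    exact (IsUnit.mk0 _ (IsFractionRing.to_map_ne_zero_of_mem_nonZeroDivisors hr)).map _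
  · intro a
    have ha : IsAlgebraic R a :=
      (IsFractionRing.isAlgebraic_iff R K A).2 (Algebra.IsIntegral.isIntegral a).isAlgebraic
    obtain ⟨r, hr, hint⟩ := ha.exists_integral_multiple
    refine ⟨⟨⟨r • a, hint⟩, ⟨algebraMap R _ r, r, mem_nonZeroDivisors_of_ne_zero hr, rfl⟩⟩, ?_⟩
    show a * algebraMap R A r = r • a
    rw [Algebra.smul_def, mul_comm]
  · intro a b h
    exact ⟨1, by rw [Subtype.ext h]⟩

theorem isPushout_integralClosure [Module.Finite K A] :
    Algebra.IsPushout R (integralClosure R A) K A := by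
  haveI := isLocalization_integralClosure R K A
  exact Algebra.isPushout_of_isLocalization (nonZeroDivisors R) K (integralClosure R A) A

omit [IsDedekindDomain R] in
theorem isEtaleAt_of_localization {B A' : Type u} [CommRing B] [CommRing A'] [Algebra R B] [Algebra R A']
    [Algebra B A'] [IsScalarTower R B A'] [Algebra.FormallyEtale R A'] (M : Submonoid B) [IsLocalization M A']
    (q : Ideal B) [q.IsPrime] (hM : M ≤ q.primeCompl) : Algebra.IsEtaleAt R q := by
  let Bq := Localization.AtPrime q
  letI : Algebra A' Bq := IsLocalization.localizationAlgebraOfSubmonoidLe A' Bq M q.primeCompl hM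
  haveI : IsScalarTower B A' Bq :=
    IsLocalization.localization_isScalarTower_of_submonoid_le A' Bq M q.primeCompl hM
  haveI : IsLocalization (q.primeCompl.map (algebraMap B A')) Bq :=
    IsLocalization.isLocalization_of_submonoid_le A' Bq M q.primeCompl hM
  haveI : IsScalarTower R A' Bq := IsScalarTower.of_algebraMap_eq fun r => by
    rw [IsScalarTower.algebraMap_apply R B Bq, IsScalarTower.algebraMap_apply R B A',
      ← IsScalarTower.algebraMap_apply B A' Bq]
  haveI : Algebra.FormallyEtale A' Bq :=
    Algebra.FormallyEtale.of_isLocalization (q.primeCompl.map (algebraMap B A'))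
  exact Algebra.FormallyEtale.comp R A' Bq

/-- Primes over the generic point are étale. -/
theorem isEtaleAt_generic [Algebra.FormallyEtale K A] [Module.Finite K A]
    (q : Ideal (integralClosure R A)) [q.IsPrime] (hq : q.comap (algebraMap R (integralClosure R A)) = ⊥) :
    Algebra.IsEtaleAt R q := by
  haveI := isLocalization_integralClosure R K A
  haveI : Algebra.FormallyEtale R K := Algebra.FormallyEtale.of_isLocalization (nonZeroDivisors R)
  haveI : Algebra.FormallyEtale R A := Algebra.FormallyEtale.comp R K A
  refine isEtaleAt_of_localization R (A' := A) (Algebra.algebraMapSubmonoid _ (nonZeroDivisors R)) q ?_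
  rintro _ ⟨r, hr, rfl⟩ h
  have : r ∈ q.comap (algebraMap R (integralClosure R A)) := h
  rw [hq] at this
  exact nonZeroDivisors.ne_zero hr this

set_option maxHeartbeats 1000000 in
/-- The local rings at closed points are discrete valuation rings. -/
theorem isDVR_atPrime [Algebra.FormallyEtale K A] [Module.Finite K A]
    (q : Ideal (integralClosure R A)) [q.IsPrime] (hq : q.comap (algebraMap R (integralClosure R A)) ≠ ⊥) :
    ∃ _ : IsDomain (Localization.AtPrime q), IsDiscreteValuationRing (Localization.AtPrime q) := by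
  classical
  obtain ⟨I, _, Ai, _, _, e, hsep⟩ := (Algebra.FormallyEtale.iff_exists_algEquiv_prod K A).1
    (inferInstance : Algebra.FormallyEtale K A)
  haveI := Fintype.ofFinite I
  letI : ∀ i, Algebra R (Ai i) := fun i => ((algebraMap K (Ai i)).comp (algebraMap R K)).toAlgebra
  haveI : ∀ i, IsScalarTower R K (Ai i) := fun i => IsScalarTower.of_algebraMap_eq fun _ => rfl
  let B := integralClosure R A
  let eR : A ≃ₐ[R] Π i, Ai i := e.restrictScalars R
  have hint : ∀ (i : I) (x : Ai i), IsIntegral R x → IsIntegral R (eR.symm (Pi.single i x)) := by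
    intro i x hx
    refine IsIntegral.map eR.symm.toAlgHom ?_
    obtain ⟨g, hg, hg0⟩ := hx
    refine ⟨g * Polynomial.X, hg.mul Polynomial.monic_X, funext fun j => ?_⟩
    have h2 := Polynomial.hom_eval₂ (g * Polynomial.X) (algebraMap R (Π i, Ai i)) (Pi.evalRingHom Ai j) (Pi.single i x)
    refine h2.trans ?_
    rw [Polynomial.eval₂_mul, Polynomial.eval₂_X]
    show _ * Pi.single i x j = 0
    by_cases hji : j = i
    · subst hji
      rw [show Pi.evalRingHom Ai j (Pi.single j x) = x from Pi.single_eq_same (M := Ai) j x, Pi.single_eq_same]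
      exact mul_eq_zero_of_left hg0 _
    · rw [Pi.single_eq_of_ne hji, mul_zero]
  let ε : I → B := fun i => ⟨eR.symm (Pi.single i 1), hint i 1 isIntegral_one⟩
  have hεv : ∀ i, eR (ε i : A) = Pi.single i 1 := fun i => eR.apply_symm_apply _
  obtain ⟨i, hi⟩ : ∃ i, ε i ∉ q := by
    by_contra h
    push Not at h
    have h1 : ∑ i, ε i = 1 := by
      apply Subtype.ext
      apply eR.injective
      rw [AddSubmonoidClass.coe_finsetSum, map_sum, OneMemClass.coe_one, map_one]
      simp only [hεv]
      exact Finset.univ_sum_single (fun _ => 1)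
    exact q.ne_top_iff_one.1 (Ideal.IsPrime.ne_top') (h1 ▸ q.sum_mem fun i _ => h i)
  haveI : Module.Finite K (Ai i) :=
    Module.Finite.of_surjective ((Pi.evalAlgHom K Ai i).comp e.toAlgHom).toLinearMap
      ((Function.surjective_eval i).comp e.surjective)
  haveI := hsep i
  let Bi := integralClosure R (Ai i)
  haveI : IsDedekindDomain Bi := IsIntegralClosure.isDedekindDomain R K (Ai i) Bi
  let f : B →ₐ[R] Bi :=
    AlgHom.codRestrict (((Pi.evalAlgHom R Ai i).comp eR.toAlgHom).comp B.val) _
      fun b => b.2.map ((Pi.evalAlgHom R Ai i).comp eR.toAlgHom)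
  have hf : Function.Surjective f := fun x =>
    ⟨⟨eR.symm (Pi.single i x.1), hint i _ x.2⟩, Subtype.ext (by
      show eR (eR.symm (Pi.single i x.1)) i = x.1
      rw [eR.apply_symm_apply, Pi.single_eq_same])⟩
  have hker : ∀ b, f b = 0 → ε i * b = 0 := by
    intro b hb
    apply Subtype.ext
    apply eR.injective
    have hb' : eR (b : A) i = 0 := congrArg Subtype.val hb
    rw [MulMemClass.coe_mul, map_mul, hεv, ZeroMemClass.coe_zero, map_zero]
    funext j
    by_cases hji : j = i
    · subst hji; rw [Pi.mul_apply, hb', mul_zero]; rfl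
    · rw [Pi.mul_apply, Pi.single_eq_of_ne hji, zero_mul]; rfl
  let qi : Ideal Bi := q.map f.toRingHom
  have hkq : RingHom.ker f.toRingHom ≤ q := fun b hb =>
    ((Ideal.IsPrime.mem_or_mem ‹q.IsPrime› (show ε i * b ∈ q by rw [hker b hb]; exact q.zero_mem))).resolve_left hi
  haveI : qi.IsPrime := Ideal.map_isPrime_of_surjective (f := f.toRingHom) hf hkq
  have hmem : ∀ b, f b ∈ qi ↔ b ∈ q := by
    intro b
    refine ⟨fun h => ?_, fun h => Ideal.mem_map_of_mem f.toRingHom h⟩
    have h' : b ∈ qi.comap f.toRingHom := h
    rwa [Ideal.comap_map_of_surjective f.toRingHom hf, sup_eq_left.2] at h'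
    exact (le_of_eq (RingHom.ker_eq_comap_bot _).symm).trans hkq
  let O := Localization.AtPrime qi
  letI : Algebra B O := ((algebraMap Bi O).comp f.toRingHom).toAlgebra
  haveI : IsLocalization q.primeCompl O := by
    refine ⟨⟨?_, ?_, ?_⟩⟩
    · intro m
      exact IsLocalization.map_units O (⟨f m, fun h => m.2 ((hmem _).1 h)⟩ : qi.primeCompl)
    · intro z
      obtain ⟨⟨x, ⟨s, hs⟩⟩, h⟩ := IsLocalization.surj qi.primeCompl z
      obtain ⟨b, rfl⟩ := hf x
      obtain ⟨t, rfl⟩ := hf s
      exact ⟨⟨b, ⟨t, fun h => hs ((hmem _).2 h)⟩⟩, h⟩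
    · intro a b h
      obtain ⟨⟨s, hs⟩, h'⟩ := IsLocalization.exists_of_eq (M := qi.primeCompl) (show algebraMap Bi O (f a) = algebraMap Bi O (f b) from h)
      obtain ⟨t, rfl⟩ := hf s
      refine ⟨⟨ε i * t, q.primeCompl.mul_mem hi fun h => hs ((hmem _).2 h)⟩, ?_⟩
      have h0 : f (t * a - t * b) = 0 := by rw [map_sub, map_mul, map_mul, h', sub_self]
      have := hker _ h0
      rw [mul_sub, sub_eq_zero] at this
      show ε i * t * a = ε i * t * b
      rw [mul_assoc, mul_assoc]
      exact this
  have hne : qi ≠ ⊥ := by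
    obtain ⟨r, hr, hr0⟩ := Submodule.exists_mem_ne_zero_of_ne_bot hq
    refine Submodule.ne_bot_iff _ |>.2 ⟨f (algebraMap R B r), (hmem _).2 hr, ?_⟩
    rw [f.commutes]
    intro h
    have h' : algebraMap K (Ai i) (algebraMap R K r) = 0 := congrArg Subtype.val h
    rw [map_eq_zero] at h'
    exact hr0 ((map_eq_zero_iff _ (IsFractionRing.injective R K)).1 h')
  haveI : IsDiscreteValuationRing O :=
    IsLocalization.AtPrime.isDiscreteValuationRing_of_dedekind_domain Bi hne O
  let ψ : O ≃+* Localization.AtPrime q := (IsLocalization.algEquiv q.primeCompl O _).toRingEquiv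
  haveI : IsDomain (Localization.AtPrime q) := ψ.symm.toMulEquiv.isDomain
  exact ⟨inferInstance, IsDiscreteValuationRing.RingEquivClass.isDiscreteValuationRing ψ⟩

variable {R K} in
/-- integral elements of the generic fibre of a smooth algebra come from the algebra -/
theorem exists_of_isIntegral {C : Type u} [CommRing C] [Algebra R C] [Algebra.Smooth R C]
    (x : C ⊗[R] K) (hx : IsIntegral R x) : ∃ c : C, x = c ⊗ₜ[R] (1 : K) := by
  obtain ⟨z, hz⟩ := (TensorProduct.toIntegralClosure_bijective_of_smooth (R := R) (S := C) (B := K)).2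
    ⟨x, hx.tower_top⟩
  have hz' : (TensorProduct.toIntegralClosure R C K z : C ⊗[R] K) = x := congrArg Subtype.val hz
  rw [← hz']
  clear hz hz'
  induction z using TensorProduct.induction_on with
  | zero => exact ⟨0, by simp⟩
  | tmul c y =>
    obtain ⟨r, hr⟩ := IsIntegrallyClosed.algebraMap_eq_of_integral (R := R) (K := K) y.2
    refine ⟨r • c, ?_⟩
    show c ⊗ₜ[R] (y : K) = _
    rw [TensorProduct.smul_tmul, ← hr, Algebra.algebraMap_eq_smul_one]
  | add a b ha hb =>
    obtain ⟨c, hc⟩ := ha
    obtain ⟨d, hd⟩ := hb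
    exact ⟨c + d, by rw [map_add, Subalgebra.coe_add, hc, hd, TensorProduct.add_tmul]⟩

theorem tmul_one_injective {C : Type u} [CommRing C] [Algebra R C] [Module.Flat R C] :
    Function.Injective fun c : C => c ⊗ₜ[R] (1 : K) := by
  have h := Module.Flat.lTensor_preserves_injective_linearMap (M := C) (Algebra.linearMap R K)
    (IsFractionRing.injective R K)
  intro a b hab
  have h2 : (Algebra.linearMap R K).lTensor C (a ⊗ₜ 1) = (Algebra.linearMap R K).lTensor C (b ⊗ₜ 1) := by
    simpa using hab
  exact (TensorProduct.rid R C).symm.injective (h h2)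

end Groth.Agent.NEt
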