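import Groth.Agent.NLft.Special
import Groth.Agent.GeomField.GlobalFunctions
import Mathlib.RingTheory.Etale.Locus
import Mathlib.RingTheory.Smooth.Fiber
import Mathlib.RingTheory.LocalRing.ResidueField.Ideal
import Mathlib.RingTheory.Flat.Stability

/-!
# Unramifiedness of integral algebras mapping to smooth algebras
-/

set_option autoImplicit false

universe u

open TensorProduct IsLocalRing

namespace Groth.Agent.NEt

variable {R : Type u} [CommRing R] {C : Type u} [CommRing C] [Algebra R C] [Algebra.Smooth R C]

/-- At a prime minimal over a maximal ideal of the base, the maximal ideal stays maximal, and the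
residue field is geometrically reduced. -/
theorem smooth_minimal (p : Ideal R) [p.IsMaximal] (P : Ideal C) [P.IsPrime]
    (hP : P ∈ (p.map (algebraMap R C)).minimalPrimes) :
    p.map (algebraMap R (Localization.AtPrime P)) = maximalIdeal (Localization.AtPrime P) ∧
      ∀ [Algebra p.ResidueField (ResidueField (Localization.AtPrime P))]
        [IsScalarTower R p.ResidueField (ResidueField (Localization.AtPrime P))],
        Algebra.IsGeometricallyReduced p.ResidueField (ResidueField (Localization.AtPrime P)) := by
  let k := p.ResidueField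
  let A0 := C ⧸ p.map (algebraMap R C)
  let O := Localization.AtPrime P
  let θ : (R ⧸ p) ≃ₐ[R] k :=
    AlgEquiv.ofBijective (IsScalarTower.toAlgHom R (R ⧸ p) k) p.bijective_algebraMap_quotient_residueField
  let e : k ⊗[R] C ≃+* A0 :=
    ((Algebra.TensorProduct.congr θ.symm (AlgEquiv.refl (A₁ := C))).trans
      ((Algebra.TensorProduct.comm R (R ⧸ p) C).trans
        ((Algebra.TensorProduct.quotIdealMapEquivTensorQuot C p).symm.restrictScalars R))).toRingEquiv
  have he : ∀ c : C, e ((1 : k) ⊗ₜ[R] c) = Ideal.Quotient.mk _ c := fun c => by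
    have hq : e.symm (Ideal.Quotient.mk _ c) = θ 1 ⊗ₜ[R] c := rfl
    rw [map_one] at hq
    rw [← hq, e.apply_symm_apply]
  haveI : _root_.IsReduced (k ⊗[R] C) := QRepLib.isReduced_of_smooth_algebra k (k ⊗[R] C)
  haveI : _root_.IsReduced A0 := isReduced_of_injective e.symm e.symm.injective
  let I := p.map (algebraMap R O)
  have hmap : I = (p.map (algebraMap R C)).map (algebraMap C O) := by
    rw [Ideal.map_map, ← IsScalarTower.algebraMap_eq]
  let O0 := O ⧸ I
  let ψ : A0 →+* O0 := Ideal.quotientMap _ (algebraMap C O) (by rw [hmap]; exact Ideal.le_comap_map)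
  algebraize [ψ]
  let M0 := P.primeCompl.map (Ideal.Quotient.mk (p.map (algebraMap R C)))
  haveI : IsLocalization M0 O0 := by
    refine ⟨⟨?_, ?_, ?_⟩⟩
    · rintro ⟨_, m, hm, rfl⟩
      exact (IsLocalization.map_units O (⟨m, hm⟩ : P.primeCompl)).map (Ideal.Quotient.mk _)
    · intro z
      obtain ⟨z, rfl⟩ := Ideal.Quotient.mk_surjective z
      obtain ⟨⟨a, m⟩, h⟩ := IsLocalization.surj P.primeCompl z
      exact ⟨⟨Ideal.Quotient.mk _ a, ⟨_, m, m.2, rfl⟩⟩, congrArg (Ideal.Quotient.mk _) h⟩
    · intro a b h
      obtain ⟨a, rfl⟩ := Ideal.Quotient.mk_surjective a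
      obtain ⟨b, rfl⟩ := Ideal.Quotient.mk_surjective b
      have h' : algebraMap C O (a - b) ∈ (p.map (algebraMap R C)).map (algebraMap C O) := by
        rw [← hmap, map_sub, ← Ideal.Quotient.eq]
        exact h
      obtain ⟨⟨⟨i, hi⟩, m⟩, hm⟩ := (IsLocalization.mem_map_algebraMap_iff P.primeCompl O).1 h'
      rw [← map_mul] at hm
      obtain ⟨c, hc⟩ := IsLocalization.exists_of_eq (M := P.primeCompl) hm
      refine ⟨⟨_, _, (c * m).2, rfl⟩, ?_⟩
      rw [← map_mul, ← map_mul, Ideal.Quotient.eq]
      have e' : ((c * m : P.primeCompl) : C) * a - ((c * m : P.primeCompl) : C) * b = c * i := by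
        rw [← hc, Submonoid.coe_mul]; ring
      rw [e']
      exact Ideal.mul_mem_left _ _ hi
  haveI : _root_.IsReduced O0 := isReduced_localizationPreserves M0 O0 inferInstance
  have hrad : I.IsRadical := (Ideal.isRadical_iff_quotient_reduced I).2 (inferInstanceAs (_root_.IsReduced O0))
  have hmO : I = maximalIdeal O := by
    refine le_antisymm ?_ ?_
    · rw [hmap, ← Localization.AtPrime.map_eq_maximalIdeal]
      exact Ideal.map_mono hP.1.2
    · rw [← hrad.radical, Ideal.radical_eq_sInf]
      refine le_sInf fun Q hQ => ?_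
      haveI := hQ.2
      have h1 : Q.comap (algebraMap C O) = P := by
        have hle : Q.comap (algebraMap C O) ≤ P := by
          intro c hc
          by_contra hn
          exact hQ.2.ne_top (Ideal.eq_top_of_isUnit_mem _ hc (IsLocalization.map_units O (⟨c, hn⟩ : P.primeCompl)))
        refine hle.antisymm (hP.2 ⟨Ideal.IsPrime.comap _, ?_⟩ hle)
        rw [← Ideal.map_le_iff_le_comap, ← hmap]
        exact hQ.1
      rw [← Localization.AtPrime.map_eq_maximalIdeal (I := P)]
      exact Ideal.map_le_iff_le_comap.2 h1.ge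
  refine ⟨hmO, ?_⟩
  intro _ _
  let g : O0 ≃+* ResidueField O := Ideal.quotEquivOfEq hmO
  let ρ : k ⊗[R] C →+* ResidueField O := g.toRingHom.comp (ψ.comp e.toRingHom)
  haveI : Algebra.IsGeometricallyReduced k (k ⊗[R] C) := NLft.gr_of_smooth k (k ⊗[R] C)
  algebraize [ρ]
  haveI : IsScalarTower k (k ⊗[R] C) (ResidueField O) := IsScalarTower.of_algebraMap_eq fun c => by
    obtain ⟨c, rfl⟩ := p.algebraMap_residueField_surjective c
    rw [← IsScalarTower.algebraMap_apply R k (ResidueField O)]
    show _ = ρ ((algebraMap R k c) ⊗ₜ[R] (1 : C))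
    have e1 : (algebraMap R k c) ⊗ₜ[R] (1 : C) = (1 : k) ⊗ₜ[R] algebraMap R C c := by
      rw [Algebra.algebraMap_eq_smul_one, Algebra.algebraMap_eq_smul_one, TensorProduct.tmul_smul,
        TensorProduct.smul_tmul']
    rw [e1]
    show _ = g (ψ (e _))
    rw [he]
    rfl
  have hM : IsLocalization (M0.comap e.toRingHom) (ResidueField O) := by
    refine ⟨⟨?_, ?_, ?_⟩⟩
    · intro m
      exact (IsLocalization.map_units O0 (⟨e m, m.2⟩ : M0)).map g
    · intro z
      obtain ⟨⟨a, m⟩, h⟩ := IsLocalization.surj M0 (g.symm z)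
      refine ⟨⟨e.symm a, ⟨e.symm m, ?_⟩⟩, ?_⟩
      · show e (e.symm m) ∈ M0
        rw [e.apply_symm_apply]; exact m.2
      · have h' := congrArg g h
        rw [map_mul, g.apply_symm_apply] at h'
        refine Eq.trans ?_ (h'.trans ?_)
        · show z * g (ψ (e (e.symm _))) = _
          rw [e.apply_symm_apply]; rfl
        · show g (ψ a) = g (ψ (e (e.symm a)))
          rw [e.apply_symm_apply]
    · intro a b h
      obtain ⟨c, hc⟩ := IsLocalization.exists_of_eq (M := M0) (S := O0) (x := e a) (y := e b) (g.injective h)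
      refine ⟨⟨e.symm c, show e (e.symm c) ∈ M0 by rw [e.apply_symm_apply]; exact c.2⟩, e.injective ?_⟩
      rw [map_mul, map_mul, e.apply_symm_apply]
      exact hc
  exact GeomField.gr_localization (k ⊗[R] C) (ResidueField O) (M0.comap e.toRingHom)

variable [IsNoetherianRing R] [IsDomain R] {B : Type u} [CommRing B] [Algebra R B] [Module.Finite R B] [Module.Flat R B]

/-- A point of a finite flat algebra with discrete valuation local ring, under a smooth algebra, is étale. -/
theorem isEtaleAt_of_smooth (χ : B →ₐ[R] C) (p : Ideal R) [p.IsMaximal] (hp0 : p ≠ ⊥) (P : Ideal C) [P.IsPrime]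
    (hP : P ∈ (p.map (algebraMap R C)).minimalPrimes) (q : Ideal B) [q.IsPrime]
    (hq : q = P.comap χ.toRingHom) [IsDomain (Localization.AtPrime q)]
    [IsDiscreteValuationRing (Localization.AtPrime q)] : Algebra.IsEtaleAt R q := by
  obtain ⟨hmO, hGR⟩ := smooth_minimal p P hP
  let OB := Localization.AtPrime q
  let O := Localization.AtPrime P
  have hpP : P.comap (algebraMap R C) = p :=
    (Ideal.IsMaximal.eq_of_le ‹p.IsMaximal› (Ideal.IsPrime.comap (algebraMap R C)).ne_top
      (Ideal.map_le_iff_le_comap.1 hP.1.2)).symm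
  haveI : q.LiesOver p := ⟨by
    rw [Ideal.under, hq]
    ext r
    show r ∈ p ↔ χ (algebraMap R B r) ∈ P
    rw [χ.commutes, ← hpP]
    rfl⟩
  let μ : OB →+* O := Localization.localRingHom q P χ.toRingHom hq
  haveI : IsLocalHom μ := inferInstanceAs (IsLocalHom (Localization.localRingHom q P χ.toRingHom hq))
  have hμB : ∀ b, μ (algebraMap B OB b) = algebraMap C O (χ b) := fun b =>
    Localization.localRingHom_to_map _ _ _ _ b
  have hμR : ∀ r, μ (algebraMap R OB r) = algebraMap R O r := fun r => by
    rw [IsScalarTower.algebraMap_apply R B OB, hμB, χ.commutes, ← IsScalarTower.algebraMap_apply]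
  haveI : Module.Flat C O := IsLocalization.flat O P.primeCompl
  haveI : Module.Flat R O := Module.Flat.trans R C O
  haveI : Module.Flat B OB := IsLocalization.flat OB q.primeCompl
  haveI : Module.Flat R OB := Module.Flat.trans R B OB
  have hpm : p.map (algebraMap R OB) = maximalIdeal OB := by
    have hle : p.map (algebraMap R OB) ≤ maximalIdeal OB := by
      rw [Ideal.map_le_iff_le_comap]
      intro r hr
      rw [Ideal.mem_comap, IsScalarTower.algebraMap_apply R B OB, IsLocalization.AtPrime.to_map_mem_maximal_iff OB q]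
      exact (Ideal.mem_of_liesOver q p r).1 hr
    algebraize [μ]
    haveI : IsScalarTower R OB O := IsScalarTower.of_algebraMap_eq fun r => (hμR r).symm
    haveI : Module.Flat OB O := by
      have hnzd : ∀ x : OB, x ≠ 0 → IsSMulRegular O x := by
        intro x hx
        obtain ⟨r, hr, hr0⟩ := Submodule.exists_mem_ne_zero_of_ne_bot hp0
        have hr' : algebraMap R OB r ≠ 0 := by
          intro h
          have hreg : IsSMulRegular OB r :=
            Module.Flat.isSMulRegular_of_isRegular (IsRegular.of_ne_zero hr0)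
          exact one_ne_zero (hreg (show r • (1 : OB) = r • 0 by rw [smul_zero, Algebra.smul_def, h, zero_mul]))
        obtain ⟨ϖ, hϖ⟩ := IsDiscreteValuationRing.exists_irreducible OB
        obtain ⟨n, u, rfl⟩ := IsDiscreteValuationRing.eq_unit_mul_pow_irreducible hx hϖ
        obtain ⟨m, v, hv⟩ := IsDiscreteValuationRing.eq_unit_mul_pow_irreducible hr' hϖ
        have hregr : IsSMulRegular O (algebraMap R OB r) := fun a b hab =>
          (Module.Flat.isSMulRegular_of_isRegular (IsRegular.of_ne_zero hr0) : IsSMulRegular O r)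
            (by simpa only [algebraMap_smul] using hab)
        have hm : m ≠ 0 := by
          rintro rfl
          have h1 : algebraMap R OB r ∈ maximalIdeal OB := hle (Ideal.mem_map_of_mem _ hr)
          rw [hv, pow_zero, mul_one] at h1
          exact (IsLocalRing.mem_maximalIdeal _).1 h1 v.isUnit
        have hregϖ : IsSMulRegular O ϖ := by
          obtain ⟨m', rfl⟩ := Nat.exists_eq_succ_of_ne_zero hm
          exact IsSMulRegular.of_mul (a := (v : OB) * ϖ ^ m') (by rwa [mul_assoc, ← pow_succ, ← hv])
        exact IsSMulRegular.mul (IsUnit.isSMulRegular O u.isUnit) (hregϖ.pow n)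
      haveI : Module.IsTorsionFree OB O := ⟨fun x hx => hnzd x hx.ne_zero⟩
      infer_instance
    haveI : IsLocalHom (algebraMap OB O) := inferInstanceAs (IsLocalHom μ)
    haveI : Module.FaithfullyFlat OB O := Module.FaithfullyFlat.of_flat_of_isLocalHom
    refine le_antisymm hle ?_
    rw [← Ideal.comap_map_eq_self_of_faithfullyFlat (B := O) (p.map (algebraMap R OB)), Ideal.map_map,
      ← IsScalarTower.algebraMap_eq, hmO]
    exact le_of_eq (((local_hom_TFAE (algebraMap OB O)).out 0 4 rfl rfl).1 inferInstance).symm
  letI := Localization.AtPrime.algebraOfLiesOver p q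
  let χ' : B →+* ResidueField O := (residue O).comp ((algebraMap C O).comp χ.toRingHom)
  have hker : RingHom.ker χ' = q := by
    ext b
    rw [RingHom.mem_ker, hq]
    exact residue_eq_zero_iff _ |>.trans (IsLocalization.AtPrime.to_map_mem_maximal_iff O P (χ b))
  let j : q.ResidueField →+* ResidueField O := Ideal.ResidueField.lift q χ' hker.ge (by
    intro b
    intro hb
    exact IsUnit.mk0 _ fun h => hb (hker.le h))
  have hjB : ∀ b, j (algebraMap B q.ResidueField b) = χ' b := fun b => Ideal.ResidueField.lift_algebraMap _ _ _ _ b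
  letI := ((j.comp (algebraMap p.ResidueField q.ResidueField))).toAlgebra
  haveI : IsScalarTower R p.ResidueField (ResidueField O) := IsScalarTower.of_algebraMap_eq fun r => by
    show algebraMap R (ResidueField O) r = j (algebraMap p.ResidueField q.ResidueField (algebraMap R _ r))
    rw [← IsScalarTower.algebraMap_apply, IsScalarTower.algebraMap_apply R B q.ResidueField, hjB]
    show _ = residue O (algebraMap C O (χ (algebraMap R B r)))
    rw [χ.commutes, ← IsScalarTower.algebraMap_apply]
    rfl
  haveI := @hGR _ _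
  let jA : q.ResidueField →ₐ[p.ResidueField] ResidueField O := { j with commutes' := fun _ => rfl }
  haveI : Algebra.IsGeometricallyReduced p.ResidueField q.ResidueField :=
    Algebra.IsGeometricallyReduced.of_injective jA jA.toRingHom.injective
  haveI : Algebra.IsIntegral p.ResidueField q.ResidueField := Algebra.IsAlgebraic.isIntegral
  haveI : Algebra.IsSeparable p.ResidueField q.ResidueField :=
    GeomField.isSeparable_of_gr p.ResidueField q.ResidueField
  haveI : Algebra.FinitePresentation R B := Algebra.FinitePresentation.of_finiteType.1 inferInstance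
  haveI : Algebra.IsUnramifiedAt R q := (Algebra.isUnramifiedAt_iff_map_eq R p q).2 ⟨inferInstance, hpm⟩
  exact Algebra.IsEtaleAt.of_isUnramifiedAt_of_flat q

end Groth.Agent.NEt
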