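import Groth.Agent.NEt.Fibre
import Groth.Agent.NEt.Closure
import Groth.Agent.NeronBasic.Basic
import Mathlib.AlgebraicGeometry.Morphisms.QuasiFinite
import Mathlib.AlgebraicGeometry.Morphisms.Etale
import Mathlib.Algebra.Category.Ring.Constructions

/-!
# Néron models of finite étale schemes over the fraction field
-/

set_option autoImplicit false

universe u

open CategoryTheory Limits AlgebraicGeometry TopologicalSpace TensorProduct

namespace Groth.Agent.NEt

variable {R : Type u} [CommRing R] [IsDomain R]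

/-- Extension from generic fibres may be checked on affine pieces. -/
theorem surjective_of_affine {N : Over (Spec (CommRingCat.of R))} [IsSeparated N.hom]
    {A' : Over (Spec (CommRingCat.of (FractionRing R)))} (e : (Neron.genericFibre R).obj N ≅ A')
    (h : ∀ (C : CommRingCat.{u}) (φ : CommRingCat.of R ⟶ C) [Smooth (Spec.map φ)],
      Function.Surjective (fun g : Over.mk (Spec.map φ) ⟶ N => (Neron.genericFibre R).map g ≫ e.hom))
    (Y : Over (Spec (CommRingCat.of R))) [Smooth Y.hom] :
    Function.Surjective (fun g : Y ⟶ N => (Neron.genericFibre R).map g ≫ e.hom) := by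
  intro k
  let 𝒰 := Y.left.affineCover
  have key : ∀ i : 𝒰.I₀, ∃ g : Over.mk (𝒰.f i ≫ Y.hom) ⟶ N,
      (Neron.genericFibre R).map g ≫ e.hom =
        (Neron.genericFibre R).map (Over.homMk (U := Over.mk (𝒰.f i ≫ Y.hom)) (V := Y) (𝒰.f i) rfl) ≫ k := by
    intro i
    obtain ⟨φ, hφ⟩ : ∃ φ, Spec.map φ = 𝒰.f i ≫ Y.hom := ⟨_, Spec.map_preimage _⟩
    haveI : Smooth (Spec.map φ) := hφ.symm ▸ (inferInstance : Smooth (𝒰.f i ≫ Y.hom))
    let η' : Over.mk (Spec.map φ) ≅ Over.mk (𝒰.f i ≫ Y.hom) := Over.isoMk (Iso.refl _) ((Category.id_comp _).trans hφ.symm)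
    obtain ⟨g, hg⟩ := h _ φ ((Neron.genericFibre R).map η'.hom ≫
      (Neron.genericFibre R).map (Over.homMk (U := Over.mk (𝒰.f i ≫ Y.hom)) (V := Y) (𝒰.f i) rfl) ≫ k)
    refine ⟨η'.inv ≫ g, ?_⟩
    rw [Functor.map_comp, Category.assoc]
    refine (congrArg ((Neron.genericFibre R).map η'.inv ≫ ·) hg).trans ?_
    dsimp only
    rw [← Category.assoc, ← Functor.map_comp, Iso.inv_hom_id, CategoryTheory.Functor.map_id, Category.id_comp]
  choose g hg using key
  have hglue : ∀ a b, pullback.fst (𝒰.f a) (𝒰.f b) ≫ (g a).left = pullback.snd _ _ ≫ (g b).left := by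
    intro a b
    let P : Over (Spec (CommRingCat.of R)) := Over.mk (pullback.fst (𝒰.f a) (𝒰.f b) ≫ 𝒰.f a ≫ Y.hom)
    let pa : P ⟶ Over.mk (𝒰.f a ≫ Y.hom) := Over.homMk (pullback.fst _ _) rfl
    let pb : P ⟶ Over.mk (𝒰.f b ≫ Y.hom) := Over.homMk (pullback.snd _ _)
      (by simp [P, pullback.condition_assoc])
    haveI : Smooth P.hom := inferInstanceAs (Smooth (pullback.fst (𝒰.f a) (𝒰.f b) ≫ 𝒰.f a ≫ Y.hom))
    haveI : Flat P.hom := inferInstance
    suffices pa ≫ g a = pb ≫ g b from congrArg CommaMorphism.left this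
    apply NeronBasic.eq_of_map_genericFibre R P N
    rw [← cancel_mono e.hom, Functor.map_comp, Functor.map_comp, Category.assoc, Category.assoc, hg, hg,
      ← Category.assoc, ← Category.assoc, ← Functor.map_comp, ← Functor.map_comp]
    congr 2
    exact Over.OverMorphism.ext pullback.condition
  let G₀ := 𝒰.glueMorphisms (fun i => (g i).left) hglue
  have hG : G₀ ≫ N.hom = Y.hom := Scheme.Cover.hom_ext 𝒰 _ _ fun i => by
    rw [← Category.assoc, Scheme.Cover.ι_glueMorphisms]
    exact Over.w (g i)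
  refine ⟨Over.homMk G₀ hG, ?_⟩
  apply Over.OverMorphism.ext
  refine Scheme.Cover.hom_ext (𝒰.pullback₁ (pullback.fst Y.hom (Neron.genPt R))) _ _ fun i => ?_
  let jY : Over.mk (𝒰.f i ≫ Y.hom) ⟶ Y := Over.homMk (𝒰.f i) rfl
  let c : pullback (pullback.fst Y.hom (Neron.genPt R)) (𝒰.f i) ⟶ pullback (𝒰.f i ≫ Y.hom) (Neron.genPt R) :=
    pullback.lift (pullback.snd _ _) (pullback.fst _ _ ≫ pullback.snd _ _)
      (by rw [← Category.assoc, ← pullback.condition, Category.assoc, pullback.condition, Category.assoc])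
  have hc : pullback.fst (pullback.fst Y.hom (Neron.genPt R)) (𝒰.f i) = c ≫ ((Neron.genericFibre R).map jY).left := by
    apply pullback.hom_ext
    · refine Eq.trans ?_ ((Category.assoc _ _ _).trans ((congrArg (c ≫ ·) (pullback.lift_fst _ _ _)).trans
        (Category.assoc _ _ _).symm)).symm
      exact pullback.condition.trans (congrArg (· ≫ 𝒰.f i) (pullback.lift_fst _ _ _).symm)
    · exact (((Category.assoc _ _ _).trans (congrArg (c ≫ ·) (pullback.lift_snd _ _ _))).trans
        (pullback.lift_snd _ _ _)).symm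
  show pullback.fst _ _ ≫ _ = pullback.fst _ _ ≫ _
  rw [hc, Category.assoc, Category.assoc]
  congr 1
  rw [← Over.comp_left, ← Over.comp_left]
  refine congrArg CommaMorphism.left ?_
  rw [← hg i]
  rw [← Category.assoc, ← Functor.map_comp]
  congr 2
  exact Over.OverMorphism.ext (Scheme.Cover.ι_glueMorphisms _ _ hglue i)

variable [IsDedekindDomain R]

/-- Finite étale schemes over the fraction field have étale Néron models. -/
theorem exists_neronModel (G : Over (Spec (CommRingCat.of (FractionRing R)))) [IsFinite G.hom] [Etale G.hom] :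
    ∃ (N : Over (Spec (CommRingCat.of R))) (e : (Neron.genericFibre R).obj N ≅ G),
      Neron.IsNeronModelOf R N G e ∧ Etale N.hom ∧ LocallyQuasiFinite N.hom := by
  haveI : IsAffine G.left := isAffine_of_isAffineHom G.hom
  let K := FractionRing R
  obtain ⟨A, φ, i, hi⟩ : ∃ (A : CommRingCat.{u}) (φ : CommRingCat.of K ⟶ A) (i : G.left ≅ Spec A),
      i.hom ≫ Spec.map φ = G.hom :=
    ⟨Γ(G.left, ⊤), Spec.preimage (G.left.isoSpec.inv ≫ G.hom), G.left.isoSpec,
      by rw [Spec.map_preimage, Iso.hom_inv_id_assoc]⟩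
  have hfin : φ.hom.Finite := (IsFinite.SpecMap_iff φ).1 (by
    rw [show Spec.map φ = i.inv ≫ G.hom by rw [← hi, Iso.inv_hom_id_assoc]]
    infer_instance)
  have het : φ.hom.Etale := (HasRingHomProperty.Spec_iff (P := @Etale)).1 (by
    rw [show Spec.map φ = i.inv ≫ G.hom by rw [← hi, Iso.inv_hom_id_assoc]]
    infer_instance)
  letI : Algebra K A := φ.hom.toAlgebra
  haveI : Module.Finite K A := hfin
  haveI : Algebra.Etale K A := het
  letI : Algebra R A := (φ.hom.comp (algebraMap R K)).toAlgebra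
  haveI : IsScalarTower R K A := IsScalarTower.of_algebraMap_eq fun _ => rfl
  let B := integralClosure R A
  haveI : Module.Finite R B := finite_integralClosure R K A
  haveI : Module.IsTorsionFree R B := isTorsionFree_integralClosure R K A
  haveI : Module.Flat R B := inferInstance
  haveI : IsNoetherianRing B := IsNoetherianRing.of_finite R B
  haveI : IsNoetherianRing (CommRingCat.of B) := inferInstanceAs (IsNoetherianRing B)
  haveI : Algebra.FinitePresentation R B := Algebra.FinitePresentation.of_finiteType.1 inferInstance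
  let π : Spec (CommRingCat.of B) ⟶ Spec (CommRingCat.of R) := Spec.map (CommRingCat.ofHom (algebraMap R B))
  haveI : IsFinite π := (IsFinite.SpecMap_iff _).2 (RingHom.finite_algebraMap.2 inferInstance)
  let ιA : Spec A ⟶ Spec (CommRingCat.of B) := Spec.map (CommRingCat.ofHom (algebraMap B A))
  have hpb : IsPullback ιA (Spec.map φ) π (Neron.genPt R) :=
    isPullback_SpecMap_of_isPushout _ _ _ _
      ((CommRingCat.isPushout_iff_isPushout (R := R) (S := K) (R' := B) (S' := A)).2
        (isPushout_integralClosure R K A))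
  let U : (Spec (CommRingCat.of B)).Opens := ⟨Algebra.etaleLocus R B, Algebra.isOpen_etaleLocus⟩
  have hgen : ∀ q : PrimeSpectrum B, q.asIdeal.comap (algebraMap R B) = ⊥ → q ∈ Algebra.etaleLocus R B :=
    fun q hq => isEtaleAt_generic R K A q.asIdeal hq
  have hAU : Set.range ιA ⊆ Set.range U.ι := by
    rw [Scheme.Opens.range_ι]
    rintro _ ⟨w, rfl⟩
    haveI := w.isPrime
    refine hgen (PrimeSpectrum.comap (algebraMap B A) w) ?_
    show (w.asIdeal.comap (algebraMap B A)).comap (algebraMap R B) = ⊥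
    rw [Ideal.comap_comap, ← IsScalarTower.algebraMap_eq, IsScalarTower.algebraMap_eq R K A, ← Ideal.comap_comap,
      (Ideal.eq_bot_or_top (w.asIdeal.comap (algebraMap K A))).resolve_right (Ideal.IsPrime.comap _).ne_top]
    exact Ideal.comap_bot_of_injective _ (IsFractionRing.injective R K)
  let lA : Spec A ⟶ U.toScheme := IsOpenImmersion.lift U.ι ιA hAU
  let N : Over (Spec (CommRingCat.of R)) := Over.mk (U.ι ≫ π)
  haveI : Etale N.hom := by
    haveI : IsZariskiLocalAtSource @Etale.{u} := HasRingHomProperty.instIsZariskiLocalAtSource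
    refine IsZariskiLocalAtSource.of_iSup_eq_top (P := @Etale.{u})
      (fun f : { f : B // (PrimeSpectrum.basicOpen f : Set (PrimeSpectrum B)) ⊆ Algebra.etaleLocus R B } =>
        U.ι ⁻¹ᵁ PrimeSpectrum.basicOpen f.1) ?_ fun f => ?_
    · refine eq_top_iff.2 fun w _ => ?_
      obtain ⟨_, ⟨f, rfl⟩, hwf, hf⟩ := PrimeSpectrum.isTopologicalBasis_basic_opens.exists_subset_of_mem_open
        w.2 U.2
      exact Opens.mem_iSup.2 ⟨⟨f, hf⟩, hwf⟩
    · let D : (Spec (CommRingCat.of B)).Opens := PrimeSpectrum.basicOpen f.1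
      haveI : Algebra.Etale R (Localization.Away f.1) := Algebra.basicOpen_subset_etaleLocus_iff_etale.1 f.2
      let a : Spec (CommRingCat.of (Localization.Away f.1)) ⟶ Spec (CommRingCat.of B) :=
        Spec.map (CommRingCat.ofHom (algebraMap B (Localization.Away f.1)))
      haveI : IsOpenImmersion a := IsOpenImmersion.of_isLocalization f.1
      have hr : Set.range ((U.ι ⁻¹ᵁ D).ι ≫ U.ι) = Set.range a := by
        refine Eq.trans ?_ (PrimeSpectrum.localization_away_comap_range (Localization.Away f.1) f.1).symm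
        rw [Scheme.Hom.comp_base, TopCat.coe_comp, Set.range_comp, Scheme.Opens.range_ι]
        show U.ι '' (U.ι ⁻¹' (D : Set _)) = _
        rw [Set.image_preimage_eq_inter_range, Scheme.Opens.range_ι]
        exact Set.inter_eq_left.2 f.2
      show Etale ((U.ι ⁻¹ᵁ D).ι ≫ U.ι ≫ π)
      rw [← Category.assoc, ← IsOpenImmersion.isoOfRangeEq_hom_fac _ a hr, Category.assoc]
      haveI : Etale (a ≫ π) := by
        rw [← Spec.map_comp, HasRingHomProperty.Spec_iff (P := @Etale)]
        show ((algebraMap B (Localization.Away f.1)).comp (algebraMap R B)).Etale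
        rw [← IsScalarTower.algebraMap_eq]
        exact RingHom.etale_algebraMap.2 inferInstance
      infer_instance
  let F := (Neron.genericFibre R).obj N
  let eh : pullback N.hom (Neron.genPt R) ⟶ G.left :=
    hpb.lift (pullback.fst _ _ ≫ U.ι) (pullback.snd _ _) (by rw [Category.assoc]; exact pullback.condition) ≫ i.inv
  let ei : G.left ⟶ pullback N.hom (Neron.genPt R) :=
    pullback.lift (i.hom ≫ lA) G.hom (by
      rw [Category.assoc]
      show i.hom ≫ lA ≫ U.ι ≫ π = _
      rw [IsOpenImmersion.lift_fac_assoc, hpb.w, ← Category.assoc, hi])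
  let e : (Neron.genericFibre R).obj N ≅ G :=
    { hom := Over.homMk eh (by
        show eh ≫ G.hom = pullback.snd _ _
        rw [← hi]
        simp [eh])
      inv := Over.homMk ei (pullback.lift_snd _ _ _)
      hom_inv_id := Over.OverMorphism.ext (by
        show eh ≫ ei = 𝟙 _
        apply pullback.hom_ext
        · rw [← cancel_mono U.ι, Category.id_comp]
          have e1 : ei ≫ pullback.fst N.hom (Neron.genPt R) = i.hom ≫ lA := pullback.lift_fst _ _ _
          refine ((congrArg (· ≫ U.ι) ((Category.assoc _ _ _).trans (congrArg (eh ≫ ·) e1))).trans ?_)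
          show ((_ ≫ i.inv) ≫ i.hom ≫ lA) ≫ U.ι = _
          simp only [Category.assoc, Iso.inv_hom_id_assoc, lA, IsOpenImmersion.lift_fac, IsPullback.lift_fst]
        · simp only [eh, ei, Category.assoc, pullback.lift_snd, ← hi, Iso.inv_hom_id_assoc, IsPullback.lift_snd,
            Category.id_comp])
      inv_hom_id := Over.OverMorphism.ext (by
        show ei ≫ eh = 𝟙 _
        simp only [eh, ← Category.assoc]
        rw [Iso.comp_inv_eq, Category.id_comp]
        apply hpb.hom_ext
        · have e1 : ei ≫ pullback.fst N.hom (Neron.genPt R) = i.hom ≫ lA := pullback.lift_fst _ _ _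
          simp only [Category.assoc, IsPullback.lift_fst]
          exact (Category.assoc _ _ _).symm.trans ((congrArg (· ≫ U.ι) e1).trans
            ((Category.assoc _ _ _).trans (congrArg (i.hom ≫ ·) (IsOpenImmersion.lift_fac _ _ _))))
        · have e2 : ei ≫ pullback.snd N.hom (Neron.genPt R) = G.hom := pullback.lift_snd _ _ _
          simp only [Category.assoc, IsPullback.lift_snd]
          exact e2.trans hi.symm) }
  refine ⟨N, e, ?_, inferInstance, inferInstanceAs (LocallyQuasiFinite (U.ι ≫ π))⟩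
  haveI : Smooth N.hom := inferInstance
  haveI : IsSeparated N.hom := inferInstanceAs (IsSeparated (U.ι ≫ π))
  refine ⟨inferInstance, inferInstance, inferInstanceAs (LocallyOfFiniteType (U.ι ≫ π)),
    inferInstanceAs (QuasiCompact (U.ι ≫ π)), fun Y hY => ?_⟩
  haveI := hY
  refine ⟨fun g₁ g₂ h => NeronBasic.eq_of_map_genericFibre R Y N g₁ g₂ ?_, ?_⟩
  · have h' := congrArg (· ≫ e.inv) h
    simp only [Category.assoc] at h'
    exact (Category.comp_id _).symm.trans (((congrArg (_ ≫ ·) e.hom_inv_id).symm.trans h').trans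
      ((congrArg (_ ≫ ·) e.hom_inv_id).trans (Category.comp_id _)))
  refine surjective_of_affine e (fun C ψ hψ k => ?_) Y
  letI : Algebra R C := ψ.hom.toAlgebra
  haveI : Algebra.Smooth R C := (HasRingHomProperty.Spec_iff (P := @Smooth)).1 hψ
  let p₁ : pullback (Spec.map (CommRingCat.ofHom (algebraMap R C))) (Neron.genPt R) ⟶ Spec (CommRingCat.of B) :=
    Over.Hom.left k ≫ i.hom ≫ ιA
  have hp₁ : p₁ ≫ π = pullback.fst _ _ ≫ Spec.map (CommRingCat.ofHom (algebraMap R C)) := by
    show (Over.Hom.left k ≫ i.hom ≫ ιA) ≫ π = _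
    rw [Category.assoc, Category.assoc, hpb.w, ← Category.assoc i.hom, hi, ← Category.assoc, Over.w k]
    exact pullback.condition.symm
  let θ := Spec.preimage ((pullbackSpecIso R C K).inv ≫ p₁)
  have hθ : Spec.map θ = (pullbackSpecIso R C K).inv ≫ p₁ := Spec.map_preimage _
  have hθR : ∀ r : R, θ (algebraMap R B r) = algebraMap R (C ⊗[R] K) r := by
    have h1 : Spec.map (CommRingCat.ofHom (algebraMap R B) ≫ θ) =
        Spec.map (CommRingCat.ofHom (algebraMap R C) ≫ CommRingCat.ofHom Algebra.TensorProduct.includeLeftRingHom) := by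
      rw [Spec.map_comp, Spec.map_comp, hθ, Category.assoc, hp₁, pullbackSpecIso_inv_fst_assoc]
    intro r
    exact congrArg (fun m : CommRingCat.of R ⟶ CommRingCat.of (C ⊗[R] K) => m r) (Spec.map_injective h1)
  let θA : B →ₐ[R] C ⊗[R] K := { θ.hom with commutes' := hθR }
  choose c hc using fun b : B => exists_of_isIntegral (R := R) (K := K) (θA b) ((Algebra.IsIntegral.isIntegral b).map θA)
  let χ : B →ₐ[R] C := AlgHom.ofLinearMap
    { toFun := c
      map_add' := fun a b => tmul_one_injective (R := R) (K := K) (by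
        show _ ⊗ₜ[R] (1 : K) = _ ⊗ₜ[R] (1 : K)
        rw [TensorProduct.add_tmul, ← hc, ← hc, ← hc, map_add])
      map_smul' := fun r b => tmul_one_injective (R := R) (K := K) (by
        show _ ⊗ₜ[R] (1 : K) = (r • c b) ⊗ₜ[R] (1 : K)
        rw [← TensorProduct.smul_tmul', ← hc, ← hc, map_smul]) }
    (tmul_one_injective (R := R) (K := K) (by
      show c 1 ⊗ₜ[R] (1 : K) = (1 : C) ⊗ₜ[R] (1 : K)
      rw [← hc, map_one]; rfl))
    (fun a b => tmul_one_injective (R := R) (K := K) (by
      show c (a * b) ⊗ₜ[R] (1 : K) = (c a * c b) ⊗ₜ[R] (1 : K)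
      rw [← hc, map_mul, hc, hc, Algebra.TensorProduct.tmul_mul_tmul, one_mul]))
  let gC : Spec C ⟶ Spec (CommRingCat.of B) := Spec.map (CommRingCat.ofHom χ.toRingHom)
  have hU : Set.range gC ⊆ Set.range U.ι := by
    rw [Scheme.Opens.range_ι]
    rintro _ ⟨P, rfl⟩
    let P₀ : PrimeSpectrum C := P
    let q : Ideal B := P₀.asIdeal.comap χ.toRingHom
    show (⟨q, Ideal.IsPrime.comap _⟩ : PrimeSpectrum B) ∈ Algebra.etaleLocus R B
    let p : Ideal R := q.comap (algebraMap R B)
    by_cases hp0 : p = ⊥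
    · exact hgen _ hp0
    haveI : p.IsMaximal := (Ideal.IsPrime.comap (algebraMap R B)).isMaximal hp0
    have hpP : p.map (algebraMap R C) ≤ P₀.asIdeal := by
      rw [Ideal.map_le_iff_le_comap]
      intro r hr
      have h' : χ (algebraMap R B r) ∈ P₀.asIdeal := hr
      rwa [χ.commutes] at h'
    obtain ⟨P', hP', hle⟩ := Ideal.exists_minimalPrimes_le hpP
    haveI := hP'.1.1
    let q' : Ideal B := P'.comap χ.toRingHom
    have hq' : q'.comap (algebraMap R B) = p := by
      refine ((Ideal.IsMaximal.eq_of_le ‹p.IsMaximal› (Ideal.IsPrime.comap _).ne_top ?_)).symm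
      intro r hr
      show χ (algebraMap R B r) ∈ P'
      rw [χ.commutes]
      exact hP'.1.2 (Ideal.mem_map_of_mem _ hr)
    have hqq : q' = q := (Ideal.isMaximal_of_isIntegral_of_isMaximal_comap (R := R) q' (hq'.symm ▸ ‹p.IsMaximal›)).eq_of_le
      (Ideal.IsPrime.comap _).ne_top (Ideal.comap_mono hle)
    haveI : q.IsPrime := Ideal.IsPrime.comap _
    obtain ⟨_, _⟩ := isDVR_atPrime R K A q hp0
    exact isEtaleAt_of_smooth χ p hp0 P' hP' q hqq.symm
  refine ⟨Over.homMk (IsOpenImmersion.lift U.ι gC hU) ?_, ?_⟩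
  · show IsOpenImmersion.lift U.ι gC hU ≫ U.ι ≫ π = Spec.map ψ
    rw [IsOpenImmersion.lift_fac_assoc, ← Spec.map_comp]
    congr 1
    exact CommRingCat.hom_ext (RingHom.ext fun r => χ.commutes r)
  apply Over.OverMorphism.ext
  rw [← cancel_mono i.hom]
  apply hpb.hom_ext
  · show ((_ ≫ eh) ≫ i.hom) ≫ ιA = _
    simp only [eh, Category.assoc, Iso.inv_hom_id_assoc, IsPullback.lift_fst]
    refine (Category.assoc _ _ _).symm.trans ((congrArg (· ≫ U.ι) (pullback.lift_fst _ _ _)).trans ?_)
    refine (Category.assoc _ _ _).trans ((congrArg (_ ≫ ·) (IsOpenImmersion.lift_fac U.ι gC hU)).trans ?_)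
    show pullback.fst (Spec.map (CommRingCat.ofHom (algebraMap R C))) (Neron.genPt R) ≫ gC = p₁
    rw [← cancel_epi (pullbackSpecIso R C K).inv, pullbackSpecIso_inv_fst_assoc, ← hθ, ← Spec.map_comp]
    congr 1
    exact CommRingCat.hom_ext (RingHom.ext fun b => (hc b).symm)
  · rw [Category.assoc, Category.assoc, hi, Over.w, Over.w]

end Groth.Agent.NEt
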